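import Mathlib

/-!
# Index of the subgroup generated by squares; restricting actions by automorphisms
-/

set_option autoImplicit false

namespace Cfsg.Agent.Lib.TwoGroupOnOdd

variable {P : Type*} [Group P]

/-- The index of the subgroup generated by the squares. -/
noncomputable def sqIndex (P : Type*) [Group P] : ℕ :=
  (Subgroup.closure (Set.range fun x : P => x ^ 2)).index

theorem sqIndex_le_card [Finite P] : sqIndex P ≤ Nat.card P :=
  Nat.le_of_dvd Nat.card_pos (Subgroup.index_dvd_card _)

theorem sqIndex_le_half [Finite P] {x : P} (hx : x ^ 2 ≠ 1) : 2 * sqIndex P ≤ Nat.card P := by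
  rw [← (Subgroup.closure (Set.range fun x : P => x ^ 2)).card_mul_index]
  refine Nat.mul_le_mul_right _ ?_
  by_contra h
  have : Subgroup.closure (Set.range fun x : P => x ^ 2) = ⊥ := by
    apply Subgroup.eq_bot_of_card_eq
    have := Nat.card_pos (α := Subgroup.closure (Set.range fun x : P => x ^ 2))
    omega
  exact hx (Subgroup.mem_bot.mp (this ▸ Subgroup.subset_closure ⟨x, rfl⟩))

theorem sqIndex_le_mul {Q : Type*} [Group Q] [Finite P] (f : P →* Q) :
    sqIndex P ≤ sqIndex f.range * sqIndex f.ker := by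
  set S := Subgroup.closure (Set.range fun x : P => x ^ 2) with hS
  set Sk := (Subgroup.closure (Set.range fun x : f.ker => x ^ 2)).map f.ker.subtype with hSk
  set Sr := Subgroup.closure (Set.range fun x : f.range => x ^ 2) with hSr
  have hSkS : Sk ≤ S := by
    rw [hSk, MonoidHom.map_closure, Subgroup.closure_le]
    rintro _ ⟨_, ⟨x, rfl⟩, rfl⟩
    exact Subgroup.subset_closure ⟨(x : P), by simp⟩
  have hSn : S.Normal := by
    constructor
    intro x hx g
    have h : S.map (MulAut.conj g).toMonoidHom ≤ S := by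
      rw [hS, MonoidHom.map_closure, Subgroup.closure_le]
      rintro _ ⟨_, ⟨y, rfl⟩, rfl⟩
      exact Subgroup.subset_closure ⟨g * y * g⁻¹, by simp [conj_pow]⟩
    exact h ⟨x, hx, rfl⟩
  have h1 : (S ⊔ f.ker).index ∣ sqIndex f.range := by
    have hmap : (S ⊔ f.ker).index = (S.map f.rangeRestrict).index := by
      rw [Subgroup.index_map, f.ker_rangeRestrict,
        MonoidHom.range_eq_top.mpr f.rangeRestrict_surjective, Subgroup.index_top, mul_one]
    rw [hmap]
    refine Subgroup.index_dvd_of_le ?_
    rw [Subgroup.closure_le]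
    rintro _ ⟨⟨_, y, rfl⟩, rfl⟩
    exact ⟨y ^ 2, Subgroup.subset_closure ⟨y, rfl⟩, Subtype.ext (by simp)⟩
  have h2 : S.relIndex (S ⊔ f.ker) ≤ sqIndex f.ker := by
    rw [sup_comm, Subgroup.relIndex_sup_right]
    refine Nat.le_of_dvd (Nat.pos_of_ne_zero Subgroup.index_ne_zero_of_finite) ?_
    refine Subgroup.index_dvd_of_le fun x hx => ?_
    exact Subgroup.mem_subgroupOf.mpr (hSkS ⟨x, hx, rfl⟩)
  have : Finite f.range := Finite.of_surjective _ f.rangeRestrict_surjective
  have h3 := Subgroup.relIndex_mul_index (le_sup_left : S ≤ S ⊔ f.ker)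
  calc sqIndex P = S.relIndex (S ⊔ f.ker) * (S ⊔ f.ker).index := h3.symm
    _ ≤ sqIndex f.ker * sqIndex f.range :=
      Nat.mul_le_mul h2 (Nat.le_of_dvd (Nat.pos_of_ne_zero Subgroup.index_ne_zero_of_finite) h1)
    _ = _ := mul_comm _ _

theorem sqIndex_le_index_mul [Finite P] (M : Subgroup P) : sqIndex P ≤ sqIndex M * M.index := by
  set Sm := (Subgroup.closure (Set.range fun x : M => x ^ 2)).map M.subtype with hSm
  have h : Sm ≤ Subgroup.closure (Set.range fun x : P => x ^ 2) := by
    rw [hSm, MonoidHom.map_closure, Subgroup.closure_le]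
    rintro _ ⟨_, ⟨x, rfl⟩, rfl⟩
    exact Subgroup.subset_closure ⟨(x : P), by simp⟩
  refine (Nat.le_of_dvd (Nat.pos_of_ne_zero Subgroup.index_ne_zero_of_finite)
    (Subgroup.index_dvd_of_le h)).trans_eq ?_
  rw [hSm, Subgroup.index_map_subtype]
  rfl

/-- For a commutative group the index of the squares is the number of square roots of one. -/
theorem sqIndex_le_roots {A : Type*} [CommGroup A] [Finite A] :
    sqIndex A ≤ Nat.card {x : A // x ^ 2 = 1} := by
  have h : Subgroup.closure (Set.range fun x : A => x ^ 2) = (powMonoidHom 2 : A →* A).range := by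
    rw [show (Set.range fun x : A => x ^ 2) = ((powMonoidHom 2 : A →* A).range : Set A) from rfl,
      Subgroup.closure_eq]
  rw [sqIndex, h]
  have h1 := (powMonoidHom 2 : A →* A).ker.card_mul_index
  rw [Subgroup.index_ker] at h1
  have h2 := (powMonoidHom 2 : A →* A).range.card_mul_index
  have h3 : Nat.card (powMonoidHom 2 : A →* A).ker = (powMonoidHom 2 : A →* A).range.index := by
    rw [← h1, mul_comm (Nat.card (powMonoidHom 2 : A →* A).ker)] at h2
    exact (Nat.eq_of_mul_eq_mul_left Nat.card_pos h2).symm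
  rw [← h3]
  rfl

theorem sqIndex_le_two_of_cyclic [Finite P] [IsCyclic P] : sqIndex P ≤ 2 := by
  letI : CommGroup P := IsCyclic.commGroup
  refine sqIndex_le_roots.trans ?_
  have := Fintype.ofFinite P
  classical
  rw [Nat.card_eq_fintype_card, Fintype.card_subtype]
  exact IsCyclic.card_pow_eq_one_le two_pos

section Action

variable {V : Type*} [CommGroup V] (φ : P →* MulAut V) (U : Subgroup V)
  (hU : ∀ g : P, ∀ v ∈ U, φ g v ∈ U)

/-- The restriction of an action to an invariant subgroup. -/
def restrict : P →* MulAut U where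
  toFun g :=
    { toFun := fun v => ⟨φ g v, hU g v v.2⟩
      invFun := fun v => ⟨φ g⁻¹ v, hU g⁻¹ v v.2⟩
      left_inv := fun v => Subtype.ext (by simp [map_inv])
      right_inv := fun v => Subtype.ext (by simp [map_inv])
      map_mul' := fun a b => Subtype.ext (by simp) }
  map_one' := MulEquiv.ext fun v => Subtype.ext (by simp)
  map_mul' g h := MulEquiv.ext fun v => Subtype.ext (by simp)

@[simp] theorem restrict_apply (g : P) (v : U) : ((restrict φ U hU g v : U) : V) = φ g v := rfl

/-- The action induced on the quotient by an invariant subgroup. -/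
def onQuotient : P →* MulAut (V ⧸ U) where
  toFun g := QuotientGroup.congr U U (φ g) (by
    refine le_antisymm ?_ fun v hv => ⟨φ g⁻¹ v, hU g⁻¹ v hv, by simp [map_inv]⟩
    rintro _ ⟨v, hv, rfl⟩
    exact hU g v hv)
  map_one' := MulEquiv.ext fun v => by
    induction v using QuotientGroup.induction_on with
    | _ v => simp [QuotientGroup.congr_mk]
  map_mul' g h := MulEquiv.ext fun v => by
    induction v using QuotientGroup.induction_on with
    | _ v => simp [QuotientGroup.congr_mk]

@[simp] theorem onQuotient_apply (g : P) (v : V) :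
    onQuotient φ U hU g (v : V ⧸ U) = ((φ g v : V) : V ⧸ U) := rfl

/-- A `2`-element acting trivially on `U` and on `V ⧸ U`, `V` of odd order, acts trivially. -/
theorem eq_one_of_trivial_series [Finite V] (hV : Odd (Nat.card V)) (hP : IsPGroup 2 P) (g : P)
    (h1 : ∀ v ∈ U, φ g v = v) (h2 : ∀ v : V, v⁻¹ * φ g v ∈ U) : φ g = 1 := by
  apply MulEquiv.ext
  intro v
  rw [MulAut.one_apply]
  have hit : ∀ k : ℕ, φ (g ^ k) v = v * (v⁻¹ * φ g v) ^ k := by
    intro k
    induction k with
    | zero => simp
    | succ k ih =>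
        rw [pow_succ', map_mul, MulAut.mul_apply, ih, map_mul, map_pow, h1 _ (h2 v), pow_succ',
          ← mul_assoc, mul_inv_cancel_left]
  obtain ⟨k, hk⟩ := hP g
  have h3 : (v⁻¹ * φ g v) ^ 2 ^ k = 1 := by
    have := hit (2 ^ k)
    rw [hk, map_one, MulAut.one_apply] at this
    exact left_eq_mul.mp this
  have h4 : orderOf (v⁻¹ * φ g v) = 1 :=
    Nat.eq_one_of_dvd_coprimes ((Nat.coprime_two_left.mpr hV).pow_left k)
      (orderOf_dvd_of_pow_eq_one h3) (orderOf_dvd_natCard _)
  have := orderOf_eq_one_iff.mp h4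
  rwa [inv_mul_eq_one, eq_comm] at this

end Action

end Cfsg.Agent.Lib.TwoGroupOnOdd
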