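import Cfsg.Agent.Lib.TwoGroupOnOdd.Main

/-!
# The bound `Good |V| [P : P²]` for faithful actions
-/

set_option autoImplicit false

namespace Cfsg.Agent.Lib.TwoGroupOnOdd

universe u

theorem eq_one_of_sq_eq_one {V : Type u} [CommGroup V] [Finite V] (hodd : Odd (Nat.card V)) {v : V}
    (h : v ^ 2 = 1) : v = 1 :=
  orderOf_eq_one_iff.mp (Nat.eq_one_of_dvd_coprimes (Nat.coprime_two_left.mpr hodd)
    (orderOf_dvd_of_pow_eq_one h) (orderOf_dvd_natCard _))

/-- The elements fixed, or inverted, by an automorphism of a commutative group. -/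
def signSpace {V : Type u} [CommGroup V] (α : MulAut V) (b : Bool) : Subgroup V where
  carrier := {v | α v = if b then v else v⁻¹}
  one_mem' := by cases b <;> simp
  mul_mem' {x y} hx hy := by
    cases b <;> simp_all [mul_comm]
  inv_mem' {x} hx := by
    cases b <;> simp_all

theorem mem_signSpace {V : Type u} [CommGroup V] {α : MulAut V} {b : Bool} {v : V} :
    v ∈ signSpace α b ↔ α v = if b then v else v⁻¹ := Iff.rfl

/-- An odd abelian group is the product of the fixed and the inverted elements of an involution. -/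
theorem card_sign_mul {V : Type u} [CommGroup V] [Finite V] (hodd : Odd (Nat.card V)) (α : MulAut V)
    (hα : ∀ v, α (α v) = v) :
    Nat.card (signSpace α true) * Nat.card (signSpace α false) = Nat.card V := by
  have hdisj : Disjoint (signSpace α true) (signSpace α false) := by
    rw [Subgroup.disjoint_def]
    intro v h1 h2
    rw [mem_signSpace] at h1 h2
    simp only [if_true, Bool.false_eq_true, if_false] at h1 h2
    refine eq_one_of_sq_eq_one hodd ?_
    rw [pow_two, ← inv_eq_iff_mul_eq_one, ← h2, h1]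
  have hbij : Function.Bijective fun x : signSpace α true × signSpace α false => (x.1 : V) * x.2 := by
    refine ⟨Subgroup.mul_injective_of_disjoint hdisj, fun v => ?_⟩
    obtain ⟨w, hw⟩ := ((powCoprime (G := V) (n := 2)
      (Nat.coprime_comm.mp (Nat.coprime_two_left.mpr hodd)))).surjective v
    have hw' : w ^ 2 = v := hw
    refine ⟨(⟨w * α w, ?_⟩, ⟨w * (α w)⁻¹, ?_⟩), ?_⟩
    · simp [mem_signSpace, hα, mul_comm]
    · simp [mem_signSpace, hα, mul_comm]
    · rw [← hw', pow_two]
      simp only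
      rw [mul_mul_mul_comm, mul_inv_cancel, mul_one]
  rw [← Nat.card_prod, Nat.card_congr (Equiv.ofBijective _ hbij)]

theorem good_bound : ∀ (n : ℕ) {P V : Type u} [Group P] [Finite P] [CommGroup V] [Finite V]
    (φ : P →* MulAut V), Nat.card V = n → Function.Injective φ → IsPGroup 2 P →
    Odd (Nat.card V) → 1 < Nat.card V → Good (Nat.card V) (sqIndex P) := by
  intro n
  induction n using Nat.strong_induction_on with
  | _ n ih =>
  intro P V _ _ _ _ φ hn hinj hP hodd hV
  have h3 : ∀ U : Subgroup V, U ≠ ⊥ → 3 ≤ Nat.card U := fun U hU => by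
    have h1 : Nat.card U ≠ 1 := fun h => hU (Subgroup.eq_bot_of_card_eq _ h)
    have h2 : Odd (Nat.card U) := hodd.of_dvd_nat U.card_subgroup_dvd_card
    have := Nat.card_pos (α := U)
    obtain ⟨c, hc⟩ := h2
    omega
  by_cases hred : ∃ U : Subgroup V, (∀ g : P, ∀ v ∈ U, φ g v ∈ U) ∧ U ≠ ⊥ ∧ U ≠ ⊤
  · obtain ⟨U, hU, hUb, hUt⟩ := hred
    have hcard : Nat.card U * Nat.card (V ⧸ U) = Nat.card V := by
      rw [← Subgroup.index_eq_card, Subgroup.card_mul_index]
    set ψ := restrict φ U hU with hψ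
    have hQ3 : 3 ≤ Nat.card (V ⧸ U) := by
      have h1 : Nat.card (V ⧸ U) ≠ 1 := fun h => hUt (Subgroup.index_eq_one.mp h)
      have h2 : Odd (Nat.card (V ⧸ U)) := hodd.of_dvd_nat ⟨Nat.card U, by rw [mul_comm, hcard]⟩
      obtain ⟨c, hc⟩ := h2
      omega
    have hU3 := h3 U hUb
    have : Finite ψ.range := Finite.of_surjective _ ψ.rangeRestrict_surjective
    have hP1 : IsPGroup 2 ψ.range := hP.of_surjective _ ψ.rangeRestrict_surjective
    have g1 : Good (Nat.card U) (sqIndex ψ.range) := by
      refine ih (Nat.card U) ?_ ψ.range.subtype rfl (Subgroup.subtype_injective _) hP1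
        (hodd.of_dvd_nat U.card_subgroup_dvd_card) (by omega)
      rw [← hn, ← hcard]
      exact Nat.lt_mul_iff_one_lt_right (by omega) |>.mpr (by omega)
    set θ := (onQuotient φ U hU).comp ψ.ker.subtype with hθ
    have hθinj : Function.Injective θ := by
      rw [injective_iff_map_eq_one]
      intro g hg
      refine Subtype.ext (hinj ?_)
      rw [Subgroup.coe_one, map_one]
      refine eq_one_of_trivial_series φ U hodd hP g (fun v hv => ?_) (fun v => ?_)
      · exact congrArg Subtype.val (MulEquiv.ext_iff.mp (MonoidHom.mem_ker.mp g.2) ⟨v, hv⟩)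
      · have := MulEquiv.ext_iff.mp hg (v : V ⧸ U)
        exact (QuotientGroup.eq.mp (by simpa [hθ] using this.symm))
    have g2 : Good (Nat.card (V ⧸ U)) (sqIndex ψ.ker) := by
      refine ih (Nat.card (V ⧸ U)) ?_ θ rfl hθinj (hP.to_subgroup _)
        (hodd.of_dvd_nat ⟨Nat.card U, by rw [mul_comm, hcard]⟩) (by omega)
      rw [← hn, ← hcard]
      exact Nat.lt_mul_iff_one_lt_left (by omega) |>.mpr (by omega)
    rw [← hcard]
    exact good_mul g1 g2 hU3 hQ3 (sqIndex_le_mul ψ)
  push Not at hred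
  have hirr : ∀ U : Subgroup V, (∀ g : P, ∀ v ∈ U, φ g v ∈ U) → U = ⊥ ∨ U = ⊤ :=
    fun U hU => or_iff_not_imp_left.mpr (hred U hU)
  rcases subsingleton_or_nontrivial P with hs | hnt
  · left
    have h1 : sqIndex P ≤ 1 := sqIndex_le_card.trans (by rw [Nat.card_of_subsingleton (1 : P)])
    omega
  have := Fact.mk Nat.prime_two
  -- a central involution inverts everything
  have hcinv : ∀ z ∈ Subgroup.center P, z ^ 2 = 1 → z ≠ 1 → ∀ v, φ z v = v⁻¹ := by
    intro z hzc hz2 hz1 v
    have hzz : ∀ w, φ z (φ z w) = w := fun w => by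
      rw [← MulAut.mul_apply, ← map_mul, ← pow_two, hz2, map_one, MulAut.one_apply]
    rcases hirr (signSpace (φ z) true) (fun g w hw => by
        rw [mem_signSpace, if_pos rfl] at hw ⊢
        rw [← MulAut.mul_apply, ← map_mul, ← Subgroup.mem_center_iff.mp hzc g, map_mul,
          MulAut.mul_apply, hw]) with h | h
    · have h2 : v * φ z v ∈ signSpace (φ z) true := by
        simp [mem_signSpace, hzz, mul_comm]
      rw [h, Subgroup.mem_bot] at h2
      rw [eq_inv_iff_mul_eq_one, mul_comm, h2]
    · refine absurd (hinj (?_ : φ z = φ 1)) hz1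
      rw [map_one]
      refine MulEquiv.ext fun w => ?_
      have hw : w ∈ signSpace (φ z) true := h ▸ Subgroup.mem_top w
      rw [mem_signSpace, if_pos rfl] at hw
      exact hw
  obtain ⟨z, hzc, hzo⟩ := Lib.PGroups.exists_orderOf_eq_prime_of_ne_bot (p := 2)
    (hP.to_subgroup _)
    (show Subgroup.center P ≠ ⊥ from fun h => by
      have := hP.center_nontrivial
      rw [Subgroup.nontrivial_iff_ne_bot] at this
      exact this h)
  have hz2 : z ^ 2 = 1 := hzo ▸ pow_orderOf_eq_one z
  have hz1 : z ≠ 1 := fun h => by simp [h] at hzo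
  have hinv := hcinv z hzc hz2 hz1
  obtain ⟨A, -, hAn, hA, hmax⟩ := Lib.PGroups.exists_maximal_normal_abelian (⊥ : Subgroup P)
    ⟨⟨fun a b => Subsingleton.elim _ _⟩⟩
  have hCA := Lib.PGroups.centralizer_eq_self_of_maximal hP hA fun B h1 h2 h3 => hmax B h1 h2 h3
  have hzA : z ∈ A := hCA.le (Subgroup.center_le_centralizer _ hzc)
  by_cases huniq : ∀ e ∈ A, e ^ 2 = 1 → e = 1 ∨ e = z
  · have hcy : IsCyclic A := by
      refine Lib.PGroups.isCyclic_of_comm_omega hA (hP.to_subgroup _) ?_
      have : Cfsg.omegaOne 2 A ≤ Subgroup.zpowers z := by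
        refine (Subgroup.closure_le _).mpr fun e he => ?_
        rcases huniq e he.1 he.2 with h | h
        · rw [h]; exact one_mem _
        · rw [h]; exact Subgroup.mem_zpowers z
      exact (Subgroup.card_le_of_le this).trans (by rw [Nat.card_zpowers, hzo])
    exact good_of_cyclic φ hinj hP hodd hirr hV A hCA z hzA hz1 hinv huniq
  -- a normal four group `{1, z, e, ez}`
  push Not at huniq
  obtain ⟨e₀, he₀A, he₀2, he₀1, he₀z⟩ := huniq
  let Z := Subgroup.zpowers z
  have : Z.Normal := ⟨fun x hx g => by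
    rw [Subgroup.mem_center_iff.mp (Subgroup.zpowers_le.mpr hzc hx) g, mul_inv_cancel_right]
    exact hx⟩
  let O := Cfsg.omegaOne 2 A
  have hOn : O.Normal := by
    refine ⟨fun x hx g => ?_⟩
    rw [Lib.PGroups.mem_omegaOne_iff_of_comm hA] at hx ⊢
    exact ⟨hAn.conj_mem x hx.1 g, by rw [conj_pow, hx.2, mul_one, mul_inv_cancel]⟩
  have hne : O.map (QuotientGroup.mk' Z) ≠ ⊥ := by
    rw [Ne, Subgroup.map_eq_bot_iff, QuotientGroup.ker_mk']
    intro h
    have hmem := h (Lib.PGroups.mem_omegaOne_of_pow he₀A he₀2)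
    classical
    obtain ⟨i, hi, hie⟩ := Finset.mem_image.mp (mem_zpowers_iff_mem_range_orderOf.mp hmem)
    rw [Finset.mem_range, hzo] at hi
    interval_cases i
    · exact he₀1 (by simpa using hie.symm)
    · exact he₀z (by simpa using hie.symm)
  have hmn : (O.map (QuotientGroup.mk' Z)).Normal :=
    hOn.map _ (QuotientGroup.mk'_surjective _)
  obtain ⟨ē, hē, hē1⟩ := (Subgroup.bot_or_exists_ne_one _).resolve_left
    (Lib.PGroups.normal_inf_center_ne_bot (hP.to_quotient Z) _ hne)
  obtain ⟨⟨e, heO, rfl⟩, hec⟩ := hē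
  have he := (Lib.PGroups.mem_omegaOne_iff_of_comm hA).mp heO
  have hconj : ∀ g : P, g * e * g⁻¹ = e ∨ g * e * g⁻¹ = z * e := by
    intro g
    have h1 := Subgroup.mem_center_iff.mp hec (QuotientGroup.mk' Z g)
    have h2 : g * e * g⁻¹ * e⁻¹ ∈ Z := by
      rw [← QuotientGroup.eq_one_iff]
      show (QuotientGroup.mk' Z) (g * e * g⁻¹ * e⁻¹) = 1
      rw [map_mul, map_mul, map_mul, map_inv, map_inv, h1, mul_inv_cancel_right, mul_inv_cancel]
    classical
    obtain ⟨i, hi, hie⟩ := Finset.mem_image.mp (mem_zpowers_iff_mem_range_orderOf.mp h2)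
    rw [Finset.mem_range, hzo] at hi
    interval_cases i
    · left; exact (mul_inv_eq_one.mp (by simpa using hie.symm))
    · right; exact mul_inv_eq_iff_eq_mul.mp (by simpa using hie.symm)
  have hee : ∀ w, φ e (φ e w) = w := fun w => by
    rw [← MulAut.mul_apply, ← map_mul, ← pow_two, he.2, map_one, MulAut.one_apply]
  set M := Subgroup.centralizer ({e} : Set P) with hMdef
  have hMiff : ∀ g, g ∈ M ↔ g * e * g⁻¹ = e := fun g => by
    rw [hMdef, Subgroup.mem_centralizer_singleton_iff, mul_inv_eq_iff_eq_mul]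
  have hMpres : ∀ g ∈ M, ∀ b, ∀ v ∈ signSpace (φ e) b, φ g v ∈ signSpace (φ e) b := by
    intro g hg b v hv
    rw [mem_signSpace] at hv ⊢
    rw [← MulAut.mul_apply, ← map_mul, ← Subgroup.mem_centralizer_singleton_iff.mp hg, map_mul,
      MulAut.mul_apply, hv]
    cases b <;> simp
  have hMne : M ≠ ⊤ := fun h => by
    have hec' : e ∈ Subgroup.center P := Subgroup.mem_center_iff.mpr fun g =>
      Subgroup.mem_centralizer_singleton_iff.mp (h ▸ Subgroup.mem_top g : g ∈ M)
    have he1 : e ≠ 1 := fun h => hē1 (by rw [h, map_one])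
    have hez : φ e = φ z := MulEquiv.ext fun v => by rw [hcinv e hec' he.2 he1, hinv]
    refine hē1 ((QuotientGroup.eq_one_iff e).mpr ?_)
    rw [hinj hez]
    exact Subgroup.mem_zpowers z
  obtain ⟨t, ht⟩ : ∃ t, t ∉ M := by
    by_contra! h
    exact hMne (eq_top_iff.mpr fun x _ => h x)
  have hswap : ∀ g ∉ M, ∀ b, ∀ v ∈ signSpace (φ e) b, φ g v ∈ signSpace (φ e) (!b) := by
    intro g hg b v hv
    have h1 : e * g = z * (g * e) := by
      have h := (hconj g).resolve_left (mt (hMiff g).mpr hg)
      rw [mul_inv_eq_iff_eq_mul] at h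
      rw [h, ← mul_assoc, ← mul_assoc, ← pow_two, hz2, one_mul]
    rw [mem_signSpace] at hv ⊢
    rw [← MulAut.mul_apply, ← map_mul, h1, map_mul, MulAut.mul_apply, hinv, map_mul,
      MulAut.mul_apply, hv]
    cases b <;> simp
  have hMidx : M.index = 2 := by
    refine Subgroup.index_eq_two_iff.mpr ⟨t, fun b => ?_⟩
    rw [hMiff, hMiff]
    have ht' := (hconj t).resolve_left (mt (hMiff t).mpr ht)
    have hzcomm : b * z = z * b := Subgroup.mem_center_iff.mp hzc b
    have hbt : b * t * e * (b * t)⁻¹ = z * (b * e * b⁻¹) := by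
      calc b * t * e * (b * t)⁻¹ = b * (t * e * t⁻¹) * b⁻¹ := by group
        _ = (b * z) * (e * b⁻¹) := by rw [ht']; group
        _ = z * (b * e * b⁻¹) := by rw [hzcomm]; group
    rw [hbt]
    have hze : z * e ≠ e := fun h => hz1 (by simpa using h)
    rcases hconj b with h | h <;> rw [h]
    · simp [hze]
    · simp [hze, ← mul_assoc, ← pow_two, hz2]
  have hcard : Nat.card (signSpace (φ e) true) = Nat.card (signSpace (φ e) false) := by
    refine le_antisymm ?_ ?_
    · exact Nat.card_le_card_of_injective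
        (fun v => (⟨φ t v, hswap t ht true v v.2⟩ : signSpace (φ e) false))
        (fun a b h => Subtype.ext ((φ t).injective (congrArg Subtype.val h)))
    · exact Nat.card_le_card_of_injective
        (fun v => (⟨φ t v, hswap t ht false v v.2⟩ : signSpace (φ e) true))
        (fun a b h => Subtype.ext ((φ t).injective (congrArg Subtype.val h)))
  have hprod := card_sign_mul hodd (φ e) hee
  rw [← hcard] at hprod
  set u := Nat.card (signSpace (φ e) true) with hu
  have hu1 : 1 < u := by nlinarith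
  have huV : u < n := by nlinarith
  set ψ := restrict (φ.comp M.subtype) (signSpace (φ e) true) fun g v hv => hMpres g g.2 true v hv
    with hψ
  have : Finite ψ.range := Finite.of_surjective _ ψ.rangeRestrict_surjective
  have g1 : Good u (sqIndex ψ.range) := ih u huV ψ.range.subtype rfl (Subgroup.subtype_injective _)
    ((hP.to_subgroup M).of_surjective _ ψ.rangeRestrict_surjective)
    (hodd.of_dvd_nat (Subgroup.card_subgroup_dvd_card _)) hu1
  set χ := restrict ((φ.comp M.subtype).comp ψ.ker.subtype) (signSpace (φ e) false)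
    fun g v hv => hMpres g g.1.2 false v hv with hχ
  have hdec : ∀ g : P, (∀ v ∈ signSpace (φ e) true, φ g v = v) →
      (∀ v ∈ signSpace (φ e) false, φ g v = v) → g = 1 := by
    intro g h1 h2
    refine hinj ?_
    rw [map_one]
    refine MulEquiv.ext fun v => ?_
    rw [MulAut.one_apply]
    obtain ⟨w, hw⟩ := ((powCoprime (G := V) (n := 2)
      (Nat.coprime_comm.mp (Nat.coprime_two_left.mpr hodd)))).surjective v
    have hw' : w ^ 2 = v := hw
    have hv : v = (w * φ e w) * (w * (φ e w)⁻¹) := by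
      rw [mul_mul_mul_comm, mul_inv_cancel, mul_one, ← pow_two, hw']
    rw [hv, map_mul, h1 _ (by simp [mem_signSpace, hee, mul_comm]),
      h2 _ (by simp [mem_signSpace, hee, mul_comm])]
  have hker_false : ∀ g : ψ.ker, (∀ v ∈ signSpace (φ e) false, φ (g.1 : P) v = v) → g = 1 :=
    fun g hg => Subtype.ext (Subtype.ext (hdec _ (fun v hv =>
      congrArg Subtype.val (MulEquiv.ext_iff.mp (MonoidHom.mem_ker.mp g.2) ⟨v, hv⟩)) hg))
  have hχinj : Function.Injective χ := by
    rw [injective_iff_map_eq_one]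
    intro g hg
    exact hker_false g fun v hv => congrArg Subtype.val (MulEquiv.ext_iff.mp hg ⟨v, hv⟩)
  have g2 : Good u (sqIndex ψ.ker) := by
    rw [hcard]
    exact ih _ (hcard ▸ huV) χ rfl hχinj ((hP.to_subgroup M).to_subgroup _)
      (hodd.of_dvd_nat (Subgroup.card_subgroup_dvd_card _)) (hcard ▸ hu1)
  have hF : sqIndex P ≤ sqIndex ψ.range * sqIndex ψ.ker * 2 :=
    (sqIndex_le_index_mul M).trans (by rw [hMidx]; exact Nat.mul_le_mul_right _ (sqIndex_le_mul ψ))
  left
  rw [← hprod]
  rcases g1 with h1 | ⟨h1, h1'⟩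
  · rcases g2 with h2 | ⟨h2, h2'⟩
    · nlinarith [Nat.mul_le_mul h1 h2]
    · nlinarith [Nat.mul_le_mul (show sqIndex ψ.range ≤ 1 by omega) h2']
  -- blocks of order three: each restriction has order at most two
  have hthree : ∀ b, ∀ a : MulAut (signSpace (φ e) b), Nat.card (signSpace (φ e) b) = 3 →
      Nat.card (MulAut (signSpace (φ e) b)) ≤ 2 := by
    intro b _ hb
    have := Fact.mk Nat.prime_three
    have : IsCyclic (signSpace (φ e) b) := isCyclic_of_prime_card hb
    rw [Nat.card_congr (IsCyclic.mulAutMulEquiv _).toEquiv, hb, Nat.card_eq_fintype_card,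
      ZMod.card_units_eq_totient]
    decide
  have hAut1 : Nat.card (MulAut (signSpace (φ e) true)) ≤ 2 := hthree true 1 h1
  have hAut2 : Nat.card (MulAut (signSpace (φ e) false)) ≤ 2 := hthree false 1 (hcard ▸ h1)
  have hK : Nat.card ψ.ker ≤ 2 := (Nat.card_le_card_of_injective _ hχinj).trans hAut2
  have hR : Nat.card ψ.range ≤ 2 := (Finite.card_subtype_le _).trans hAut1
  have hMcard : Nat.card M ≤ Nat.card ψ.range * Nat.card ψ.ker := by
    rw [← Subgroup.index_ker, mul_comm, Subgroup.card_mul_index]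
  have hPcard : Nat.card P = Nat.card M * 2 := by rw [← hMidx, Subgroup.card_mul_index]
  have hF4 : sqIndex P ≤ 4 := by
    by_cases hsq : ∀ x : P, x ^ 2 = 1
    · have hinv2 : ∀ a : P, a⁻¹ = a := fun a => inv_eq_of_mul_eq_one_right (by rw [← pow_two, hsq])
      have hcomm : ∀ a b : P, a * b = b * a := fun a b => by
        rw [← hinv2 (a * b), mul_inv_rev, hinv2, hinv2]
      exact absurd ((hMiff t).mpr (by rw [hcomm t e, mul_inv_cancel_right])) ht
    · push Not at hsq
      obtain ⟨x, hx⟩ := hsq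
      have := sqIndex_le_half hx
      nlinarith [Nat.mul_le_mul hR hK]
  rw [h1]
  omega

end Cfsg.Agent.Lib.TwoGroupOnOdd
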