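import Cfsg.Agent.Lib.TwoGroupOnOdd.Basic
import Cfsg.Agent.Lib.PGroups.UniqueInvolution

/-!
# A 2-group acting faithfully on an abelian group `V` of odd order needs few generators

`2 ^ (d + 1) ≤ |V|` unless `|V| = 3`.
-/

set_option autoImplicit false

namespace Cfsg.Agent.Lib.TwoGroupOnOdd

universe u

/-- The bound proved by induction. -/
def Good (n F : ℕ) : Prop := 2 * F ≤ n ∨ (n = 3 ∧ F ≤ 2)

theorem good_mul {u w a b F : ℕ} (hu : Good u a) (hw : Good w b) (hu3 : 3 ≤ u) (hw3 : 3 ≤ w)
    (hF : F ≤ a * b) : Good (u * w) F := by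
  left
  rcases hu with h1 | ⟨rfl, h1⟩ <;> rcases hw with h2 | ⟨rfl, h2⟩
  · nlinarith [Nat.mul_le_mul h1 h2]
  · nlinarith [Nat.mul_le_mul h1 h2]
  · nlinarith [Nat.mul_le_mul h1 h2]
  · nlinarith [Nat.mul_le_mul h1 h2]

theorem card_roots_le (k : ℕ) : Nat.card {x : ZMod (2 ^ k) // x ^ 2 = 1} ≤ 4 := by
  rcases Nat.lt_or_ge k 2 with hk | hk
  · refine (Finite.card_subtype_le _).trans ?_
    rw [Nat.card_zmod]
    calc 2 ^ k ≤ 2 ^ 2 := Nat.pow_le_pow_right two_pos hk.le
      _ = 4 := rfl
  obtain ⟨j, rfl⟩ := Nat.exists_eq_add_of_le' hk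
  set h : ZMod (2 ^ (j + 2)) := ((2 ^ (j + 1) : ℕ) : ZMod (2 ^ (j + 2))) with hh
  classical
  have hsub : ∀ x : ZMod (2 ^ (j + 2)), x ^ 2 = 1 →
      x ∈ ({1, -1, 1 + h, -1 + h} : Finset (ZMod (2 ^ (j + 2)))) := by
    intro x hx
    obtain ⟨m, rfl⟩ : ∃ m : ℤ, (m : ZMod (2 ^ (j + 2))) = x := ⟨_, ZMod.intCast_zmod_cast x⟩
    have h1 : (2 ^ (j + 2) : ℤ) ∣ m ^ 2 - 1 := by
      have h2 : ((m ^ 2 - 1 : ℤ) : ZMod (2 ^ (j + 2))) = 0 := by
        push_cast
        rw [hx, sub_self]
      have := (ZMod.intCast_zmod_eq_zero_iff_dvd _ _).mp h2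
      exact_mod_cast this
    have hodd : Odd m := by
      by_contra he
      rw [Int.not_odd_iff_even] at he
      obtain ⟨t, rfl⟩ := he
      have : (2 : ℤ) ∣ (t + t) ^ 2 - 1 := (dvd_pow_self 2 (by omega)).trans h1
      obtain ⟨c, hc⟩ := this
      have : (2 : ℤ) * (2 * t ^ 2 - c) = 1 := by linarith
      omega
    obtain ⟨y, rfl⟩ := hodd
    have h2 : (2 ^ j : ℤ) ∣ y * (y + 1) := by
      have h3 : ((2 : ℤ) * y + 1) ^ 2 - 1 = 4 * (y * (y + 1)) := by ring
      rw [h3, pow_add, mul_comm ((2 : ℤ) ^ j)] at h1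
      exact (mul_dvd_mul_iff_left (by norm_num : (4 : ℤ) ≠ 0)).mp h1
    have key : ∀ t : ℤ, ((2 ^ (j + 1) * t : ℤ) : ZMod (2 ^ (j + 2))) = 0 ∨
        ((2 ^ (j + 1) * t : ℤ) : ZMod (2 ^ (j + 2))) = h := by
      intro t
      obtain ⟨s, hs⟩ := Int.even_or_odd' t
      have hz : ((2 ^ (j + 2) : ℤ) : ZMod (2 ^ (j + 2))) = 0 := by
        exact_mod_cast ZMod.natCast_self (2 ^ (j + 2))
      rcases hs with rfl | rfl
      · left
        rw [← mul_assoc, ← pow_succ, Int.cast_mul, hz, zero_mul]
      · right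
        rw [mul_add, ← mul_assoc, ← pow_succ, mul_one, Int.cast_add, Int.cast_mul, hz, zero_mul,
          zero_add, hh]
        push_cast
        rfl
    simp only [Finset.mem_insert, Finset.mem_singleton]
    rcases Int.even_or_odd y with hy | hy
    · have h4 : (2 ^ j : ℤ) ∣ y := by
        refine Int.prime_two.pow_dvd_of_dvd_mul_right j ?_ h2
        rw [← even_iff_two_dvd, Int.not_even_iff_odd]
        exact hy.add_one
      obtain ⟨t, rfl⟩ := h4
      rcases key t with h5 | h5
      · left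
        rw [show (2 : ℤ) * (2 ^ j * t) + 1 = 2 ^ (j + 1) * t + 1 by ring, Int.cast_add, h5]
        simp
      · right; right; left
        rw [show (2 : ℤ) * (2 ^ j * t) + 1 = 2 ^ (j + 1) * t + 1 by ring, Int.cast_add, h5,
          Int.cast_one]
        ring
    · have h4 : (2 ^ j : ℤ) ∣ y + 1 := by
        refine Int.prime_two.pow_dvd_of_dvd_mul_left j ?_ h2
        rw [← even_iff_two_dvd, Int.not_even_iff_odd]
        exact hy
      obtain ⟨t, ht⟩ := h4
      obtain rfl : y = 2 ^ j * t - 1 := by linarith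
      rcases key t with h5 | h5
      · right; left
        rw [show (2 : ℤ) * (2 ^ j * t - 1) + 1 = 2 ^ (j + 1) * t - 1 by ring, Int.cast_sub, h5]
        simp
      · right; right; right
        rw [show (2 : ℤ) * (2 ^ j * t - 1) + 1 = 2 ^ (j + 1) * t - 1 by ring, Int.cast_sub, h5,
          Int.cast_one]
        ring
  rw [Nat.card_eq_fintype_card, Fintype.card_subtype]
  exact (Finset.card_le_card fun x hx => hsub x (Finset.mem_filter.mp hx).2).trans Finset.card_le_four

theorem sqIndex_units_subgroup_le {k : ℕ} (H : Subgroup (ZMod (2 ^ k))ˣ) : sqIndex H ≤ 4 := by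
  refine sqIndex_le_roots.trans (le_trans ?_ (card_roots_le k))
  refine Nat.card_le_card_of_injective
    (fun x => (⟨((x.1 : (ZMod (2 ^ k))ˣ) : ZMod (2 ^ k)), ?_⟩ : {y : ZMod (2 ^ k) // y ^ 2 = 1})) ?_
  · have := congrArg (fun y : H => ((y : (ZMod (2 ^ k))ˣ) : ZMod (2 ^ k))) x.2
    simpa using this
  · intro x y hxy
    have h := congrArg Subtype.val hxy
    exact Subtype.ext (Subtype.ext (Units.ext h))

theorem good_of_prime {P V : Type u} [Group P] [Finite P] [CommGroup V] [Finite V] (φ : P →* MulAut V)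
    (hinj : Function.Injective φ) (hp : (Nat.card V).Prime) (hodd : Odd (Nat.card V)) :
    Good (Nat.card V) (sqIndex P) := by
  have := Fact.mk hp
  have : IsCyclic V := isCyclic_of_prime_card rfl
  have : IsCyclic (MulAut V) :=
    (IsCyclic.mulAutMulEquiv V).isCyclic.mpr inferInstance
  have : IsCyclic P := isCyclic_of_injective φ hinj
  have h2 : sqIndex P ≤ 2 := sqIndex_le_two_of_cyclic
  have := hp.two_le
  obtain ⟨c, hc⟩ := hodd
  unfold Good
  omega

/-- The case of an irreducible action without invariant pairs of blocks. -/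
theorem good_of_cyclic {P V : Type u} [Group P] [Finite P] [CommGroup V] [Finite V]
    (φ : P →* MulAut V) (hinj : Function.Injective φ) (hP : IsPGroup 2 P) (hodd : Odd (Nat.card V))
    (hirr : ∀ U : Subgroup V, (∀ g : P, ∀ v ∈ U, φ g v ∈ U) → U = ⊥ ∨ U = ⊤)
    (hV : 1 < Nat.card V) (A : Subgroup P) [A.Normal] [IsCyclic A]
    (hCA : Subgroup.centralizer (A : Set P) = A)
    (z : P) (hzA : z ∈ A) (hz : z ≠ 1) (hinv : ∀ v, φ z v = v⁻¹)
    (huniq : ∀ e ∈ A, e ^ 2 = 1 → e = 1 ∨ e = z) : Good (Nat.card V) (sqIndex P) := by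
  by_cases hVp : (Nat.card V).Prime
  · exact good_of_prime φ hinj hVp hodd
  obtain ⟨p, hp, hpd⟩ := Nat.exists_prime_and_dvd hV.ne'
  have := Fact.mk hp
  have hexp : ∀ v : V, v ^ p = 1 := by
    rcases hirr (powMonoidHom p : V →* V).ker (fun g v hv => by
        rw [MonoidHom.mem_ker] at hv ⊢
        simp only [powMonoidHom_apply] at hv ⊢
        rw [← map_pow, hv, map_one]) with h | h
    · obtain ⟨v, hv⟩ := exists_prime_orderOf_dvd_card' p hpd
      have : v ∈ (⊥ : Subgroup V) := h ▸ (show v ^ p = 1 from hv ▸ pow_orderOf_eq_one v)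
      rw [Subgroup.mem_bot.mp this, orderOf_one] at hv
      exact absurd hv hp.one_lt.ne
    · intro v
      exact (MonoidHom.mem_ker.mp (h ▸ Subgroup.mem_top v) : _)
  obtain ⟨m, hm⟩ := IsPGroup.iff_card.mp (show IsPGroup p V from fun v => ⟨1, by rw [pow_one, hexp]⟩)
  have hp3 : 3 ≤ p := by
    have := hp.two_le
    rcases Nat.lt_or_ge p 3 with h | h
    · obtain rfl : p = 2 := by omega
      exact absurd hpd fun hd => Nat.not_even_iff_odd.mpr hodd (even_iff_two_dvd.mpr hd)
    · exact h
  have hm2 : 2 ≤ m := by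
    rcases m with _ | _ | m
    · simp at hm; omega
    · exact absurd (by rw [hm, pow_one]; exact hp) hVp
    · omega
  have h9 : 9 ≤ Nat.card V := by
    rw [hm]
    calc 9 = 3 ^ 2 := rfl
      _ ≤ p ^ 2 := Nat.pow_le_pow_left hp3 2
      _ ≤ p ^ m := Nat.pow_le_pow_right hp.pos hm2
  -- fixed point freeness
  have hfree : ∀ a ∈ A, ∀ v : V, v ≠ 1 → φ a v = v → a = 1 := by
    intro a ha v hv hfix
    by_contra ha1
    obtain ⟨b, hb, hbo⟩ := Lib.PGroups.exists_orderOf_eq_prime_of_ne_bot (p := 2)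
      (hP.to_subgroup _) (mt Subgroup.zpowers_eq_bot.mp ha1)
    have hb1 : b ≠ 1 := fun h => by simp [h] at hbo
    have hbz : b = z := (huniq b (Subgroup.zpowers_le.mpr ha hb)
      (hbo ▸ pow_orderOf_eq_one b)).resolve_left hb1
    obtain ⟨i, rfl⟩ := hb
    have hfi : φ (a ^ i) v = v := by
      have hs : a ∈ (MulAction.stabilizer (MulAut V) v).comap φ := hfix
      exact zpow_mem hs i
    simp only at hbz
    rw [hbz, hinv] at hfi
    have h2 : v ^ 2 = 1 := by rw [pow_two, ← inv_eq_iff_mul_eq_one, hfi]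
    exact hv (orderOf_eq_one_iff.mp (Nat.eq_one_of_dvd_coprimes (Nat.coprime_two_left.mpr hodd)
      (orderOf_dvd_of_pow_eq_one h2) (orderOf_dvd_natCard _)))
  obtain ⟨v, hv⟩ : ∃ v : V, v ≠ 1 := by
    have : Nontrivial V := Finite.one_lt_card_iff_nontrivial.mp hV
    exact exists_ne 1
  have hAV : Nat.card A + 1 ≤ Nat.card V := by
    have hinjA : Function.Injective fun a : A => φ a v := fun a b (h : φ a v = φ b v) => by
      have : φ ((b : P)⁻¹ * a) v = v := by
        rw [map_mul, MulAut.mul_apply, h, map_inv, MulAut.inv_apply_self]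
      exact Subtype.ext (inv_mul_eq_one.mp (hfree _ (mul_mem (inv_mem b.2) a.2) v hv this)).symm
    classical
    have := Fintype.ofFinite V
    have := Fintype.ofFinite A
    have hsub : (Finset.univ.image fun a : A => φ a v) ⊆ Finset.univ.erase 1 := by
      intro w hw
      obtain ⟨a, -, rfl⟩ := Finset.mem_image.mp hw
      exact Finset.mem_erase.mpr ⟨fun h => hv ((map_eq_one_iff _ (φ a).injective).mp h), Finset.mem_univ _⟩
    have hc := Finset.card_le_card hsub
    rw [Finset.card_image_of_injective _ hinjA, Finset.card_erase_of_mem (Finset.mem_univ _),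
      Finset.card_univ, Finset.card_univ, ← Nat.card_eq_fintype_card,
      ← Nat.card_eq_fintype_card] at hc
    omega
  have hA2 : sqIndex A ≤ 2 := sqIndex_le_two_of_cyclic
  obtain ⟨k, hk⟩ := IsPGroup.iff_card.mp (hP.to_subgroup A)
  have hk1 : 1 ≤ k := by
    rcases k with _ | k
    · rw [pow_zero] at hk
      rw [Subgroup.eq_bot_of_card_eq A hk] at hzA
      exact absurd (Subgroup.mem_bot.mp hzA) hz
    · omega
  let eA : MulAut A ≃* (ZMod (2 ^ k))ˣ :=
    (IsCyclic.mulAutMulEquiv A).trans (Units.mapEquiv (ZMod.ringEquivCongr hk).toMulEquiv)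
  let c : P →* (ZMod (2 ^ k))ˣ := eA.toMonoidHom.comp MulAut.conjNormal
  have hker : c.ker = A := by
    refine le_antisymm (fun g hg => hCA.le (Subgroup.mem_centralizer_iff.mpr fun a ha => ?_))
      (fun g hg => ?_)
    · have h1 : MulAut.conjNormal g = (1 : MulAut A) := by
        apply eA.injective
        rw [map_one]
        exact hg
      have h2 := congrArg Subtype.val (MulEquiv.ext_iff.mp h1 ⟨a, ha⟩)
      rw [MulAut.one_apply, MulAut.conjNormal_apply] at h2
      exact (mul_inv_eq_iff_eq_mul.mp h2).symm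
    · rw [MonoidHom.mem_ker]
      have h1 : MulAut.conjNormal g = (1 : MulAut A) := MulEquiv.ext fun a => Subtype.ext (by
        have hg' : g ∈ Subgroup.centralizer (A : Set P) := hCA.ge hg
        rw [MulAut.one_apply, MulAut.conjNormal_apply, ← Subgroup.mem_centralizer_iff.mp hg' a a.2,
          mul_inv_cancel_right])
      simp [c, h1]
  have hsq : sqIndex P ≤ 8 := by
    refine (sqIndex_le_mul c).trans ?_
    rw [hker]
    have : sqIndex c.range ≤ 4 := sqIndex_units_subgroup_le _
    calc _ ≤ 4 * 2 := Nat.mul_le_mul this hA2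
      _ = 8 := rfl
  have hsmall : A.index ≤ 2 → Good (Nat.card V) (sqIndex P) := fun h => by
    left
    have := (sqIndex_le_index_mul A).trans (Nat.mul_le_mul hA2 h)
    omega
  rcases Nat.lt_or_ge k 3 with hk3 | hk3
  · apply hsmall
    rw [← hker, Subgroup.index_ker]
    refine (Finite.card_subtype_le _).trans ?_
    rw [Nat.card_eq_fintype_card, ZMod.card_units_eq_totient]
    interval_cases k <;> decide
  by_cases h16 : 16 ≤ Nat.card V
  · left; omega
  have hV9 : Nat.card V = 9 := by
    have hm' : m = 2 := by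
      by_contra hne
      have : 3 ^ 3 ≤ p ^ m := le_trans (Nat.pow_le_pow_left hp3 3)
        (Nat.pow_le_pow_right hp.pos (by omega))
      omega
    subst hm'
    have : p = 3 := by
      by_contra hne
      have : 4 ^ 2 ≤ p ^ 2 := Nat.pow_le_pow_left (by omega) 2
      omega
    rw [hm, this]
    rfl
  have hk8 : Nat.card A = 8 := by
    have h1 : 2 ^ 3 ≤ 2 ^ k := Nat.pow_le_pow_right two_pos hk3
    omega
  obtain ⟨a, ha⟩ := Subgroup.isCyclic_iff_exists_zpowers_eq_top A |>.mp inferInstance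
  have hao : orderOf a = 8 := by rw [← Nat.card_zpowers, ha, hk8]
  have haA : a ∈ A := ha ▸ Subgroup.mem_zpowers a
  apply hsmall
  set D := Subgroup.centralizer ({a ^ 2} : Set P) with hD
  have hDA : D ≤ A := by
    intro g hg
    -- a translate of `g` fixes `v`
    have hinjA : Function.Injective fun b : A => (⟨φ b v, fun h => hv ((map_eq_one_iff _ (φ b).injective).mp h)⟩ :
        {w : V // w ≠ 1}) := fun b b' h => by
      have h' : φ b v = φ b' v := congrArg Subtype.val h
      have : φ ((b' : P)⁻¹ * b) v = v := by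
        rw [map_mul, MulAut.mul_apply, h', map_inv, MulAut.inv_apply_self]
      exact Subtype.ext (inv_mul_eq_one.mp (hfree _ (mul_mem (inv_mem b'.2) b.2) v hv this)).symm
    have hbij := hinjA.bijective_of_nat_card_le (by
      classical
      have := Fintype.ofFinite V
      rw [Nat.card_eq_fintype_card, Fintype.card_subtype_compl, Fintype.card_subtype_eq,
        ← Nat.card_eq_fintype_card, hV9, hk8])
    obtain ⟨b, hb⟩ := hbij.2 ⟨φ g v, fun h => hv ((map_eq_one_iff _ (φ g).injective).mp h)⟩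
    have hb' : φ b v = φ g v := congrArg Subtype.val hb
    set h := (b : P)⁻¹ * g with hh
    have hhv : φ h v = v := by
      rw [hh, map_mul, MulAut.mul_apply, ← hb', map_inv, MulAut.inv_apply_self]
    have hcom : a ^ 2 * h = h * a ^ 2 := by
      have hgc : Commute (a ^ 2) g :=
        ((Subgroup.mem_centralizer_singleton_iff.mp hg).symm : a ^ 2 * g = g * a ^ 2)
      have hbc : Commute (a ^ 2) (b : P) :=
        congrArg Subtype.val ((IsCyclic.commutative (α := A)).is_comm.comm (⟨a ^ 2, pow_mem haA 2⟩ : A) b)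
      exact (hbc.inv_right.mul_right hgc).eq
    let U : Subgroup V :=
      { carrier := {w | φ h w = w}
        one_mem' := map_one _
        mul_mem' := fun {x y} hx hy => by simp only [Set.mem_setOf_eq, map_mul] at *; rw [hx, hy]
        inv_mem' := fun {x} hx => by simp only [Set.mem_setOf_eq, map_inv] at *; rw [hx] }
    have hU : U = ⊤ := by
      set w := φ (a ^ 2) v with hw
      have hvU : v ∈ U := hhv
      have hwU : w ∈ U := show φ h w = w by
        rw [hw, ← MulAut.mul_apply, ← map_mul, ← hcom, map_mul, MulAut.mul_apply, hhv]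
      have hvo : orderOf v = 3 := by
        obtain rfl : p = 3 := (Nat.prime_dvd_prime_iff_eq hp Nat.prime_three).mp
          (hp.dvd_of_dvd_pow (show p ∣ 3 ^ 2 by rw [← show Nat.card V = 3 ^ 2 from hV9]; exact hpd))
        exact orderOf_eq_prime (hexp v) hv
      have hwv : w ∉ Subgroup.zpowers v := by
        intro hmem
        classical
        obtain ⟨i, hi, hiw⟩ := Finset.mem_image.mp
          (mem_zpowers_iff_mem_range_orderOf.mp hmem)
        rw [Finset.mem_range, hvo] at hi
        interval_cases i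
        · rw [pow_zero] at hiw
          exact hv ((map_eq_one_iff _ (φ (a ^ 2)).injective).mp (hw.symm.trans hiw.symm))
        · rw [pow_one] at hiw
          have := hfree _ (pow_mem haA 2) v hv hiw.symm
          have := orderOf_dvd_of_pow_eq_one this
          rw [hao] at this
          norm_num at this
        · have h2 : φ (a ^ 2) v = v⁻¹ := by
            rw [← hw, ← hiw, eq_inv_iff_mul_eq_one, ← pow_succ]
            exact orderOf_dvd_iff_pow_eq_one.mp (hvo.trans rfl).dvd
          have h4 : φ (a ^ 4) v = v := by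
            rw [show a ^ 4 = a ^ 2 * a ^ 2 by rw [← pow_add], map_mul, MulAut.mul_apply, h2,
              map_inv, h2, inv_inv]
          have := orderOf_dvd_of_pow_eq_one (hfree _ (pow_mem haA 4) v hv h4)
          rw [hao] at this
          norm_num at this
      have hzU : Subgroup.zpowers v < U := lt_of_le_of_ne (Subgroup.zpowers_le.mpr hvU)
        fun he => hwv (he ▸ hwU)
      apply Subgroup.eq_top_of_card_eq
      have h1 := Subgroup.card_dvd_of_le hzU.le
      rw [Nat.card_zpowers, hvo] at h1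
      have h2 := U.card_subgroup_dvd_card
      rw [hV9] at h2
      have h3 : 3 < Nat.card U := by
        have := Set.ncard_lt_ncard (SetLike.coe_ssubset_coe.mpr hzU) (Set.toFinite _)
        rw [← Nat.card_coe_set_eq, ← Nat.card_coe_set_eq, SetLike.coe_sort_coe, SetLike.coe_sort_coe,
          Nat.card_zpowers, hvo] at this
        exact this
      have := Nat.le_of_dvd (by norm_num) h2
      rw [hV9]
      interval_cases hc : Nat.card U <;> omega
    have hh1 : h = 1 := hinj (by
      rw [map_one]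
      exact MulEquiv.ext fun w => (hU ▸ Subgroup.mem_top w : w ∈ U))
    rw [hh, inv_mul_eq_one] at hh1
    exact hh1 ▸ b.2
  refine (Nat.le_of_dvd (Nat.pos_of_ne_zero Subgroup.index_ne_zero_of_finite)
    (Subgroup.index_dvd_of_le hDA)).trans ?_
  -- the conjugates of `a ^ 2` are `a ^ 2` and its inverse
  have hconj : ∀ g : P, g * a ^ 2 * g⁻¹ = a ^ 2 ∨ g * a ^ 2 * g⁻¹ = a ^ 6 := by
    intro g
    have hmem : g * a ^ 2 * g⁻¹ ∈ Subgroup.zpowers a := ha.symm ▸ Subgroup.Normal.conj_mem inferInstance _ (pow_mem haA 2) g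
    classical
    obtain ⟨i, hi, hig⟩ := Finset.mem_image.mp (mem_zpowers_iff_mem_range_orderOf.mp hmem)
    rw [Finset.mem_range, hao] at hi
    have ho : orderOf (a ^ i) = 4 := by
      rw [hig, show g * a ^ 2 * g⁻¹ = MulAut.conj g (a ^ 2) from rfl, MulEquiv.orderOf_eq,
        orderOf_pow' _ two_ne_zero, hao]
      rfl
    interval_cases i
    · simp at ho
    · simp [hao] at ho
    · exact Or.inl hig.symm
    · simp [orderOf_pow', hao] at ho
    · simp [orderOf_pow', hao] at ho
    · simp [orderOf_pow', hao] at ho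
    · exact Or.inr hig.symm
    · simp [orderOf_pow', hao] at ho
  by_cases htop : D = ⊤
  · rw [htop, Subgroup.index_top]; norm_num
  obtain ⟨g, hg⟩ : ∃ g, g ∉ D := by
    by_contra! h
    exact htop (eq_top_iff.mpr fun x _ => h x)
  refine le_of_eq (Subgroup.index_eq_two_iff.mpr ⟨g, fun b => ?_⟩)
  have hiff : ∀ x : P, x ∈ D ↔ x * a ^ 2 * x⁻¹ = a ^ 2 := fun x => by
    rw [hD, Subgroup.mem_centralizer_singleton_iff, mul_inv_eq_iff_eq_mul]
  have hg6 : g * a ^ 2 * g⁻¹ = a ^ 6 := (hconj g).resolve_left fun h => hg ((hiff g).mpr h)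
  have h66 : ∀ x : P, x * a ^ 6 * x⁻¹ = (x * a ^ 2 * x⁻¹) ^ 3 := fun x => by
    rw [conj_pow, ← pow_mul]
  have hbg : b * g * a ^ 2 * (b * g)⁻¹ = b * a ^ 6 * b⁻¹ := by rw [← hg6]; group
  rw [hiff, hiff, hbg, h66]
  have h62 : (a ^ 2) ^ 3 ≠ a ^ 2 := fun h => by
    rw [← pow_mul, show 2 * 3 = 4 + 2 from rfl, pow_add] at h
    have := orderOf_dvd_of_pow_eq_one (mul_eq_right.mp h)
    rw [hao] at this
    norm_num at this
  have h8 : a ^ 8 = 1 := hao ▸ pow_orderOf_eq_one a
  have h66' : (a ^ 6) ^ 3 = a ^ 2 := by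
    rw [← pow_mul, show 6 * 3 = 8 * 2 + 2 from rfl, pow_add, pow_mul, h8, one_pow, one_mul]
  have h62' : a ^ 6 ≠ a ^ 2 := fun h => h62 (by rw [← pow_mul]; exact h)
  rcases hconj b with h | h <;> rw [h]
  · simp [h62]
  · simp [h66', h62']

end Cfsg.Agent.Lib.TwoGroupOnOdd
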